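import Mathlib

/-! Highest weight vectors of the adjoint representation of a simple Lie algebra with a Chevalley basis. -/

set_option autoImplicit false

noncomputable section

namespace Groth.Agent.AdjVar85

open LieModule LieAlgebra

universe u v w

variable {ι : Type u} {K : Type v} {L : Type w} [Fintype ι] [Field K] [CharZero K]
  [IsAlgClosed K] [LieRing L] [LieAlgebra K L] [FiniteDimensional K L] [LieAlgebra.IsSimple K L]
  (H : LieSubalgebra K L) [H.IsCartanSubalgebra] (b : LieAlgebra.Basis ι H)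

/-- `x` has weight `μ`. -/
def Wt (μ : Module.Dual K H) (x : L) : Prop := ∀ h : H, ⁅(h : L), x⁆ = μ h • x

variable {H}

theorem wt_of_mem {μ : Module.Dual K H} {x : L} (hx : x ∈ rootSpace H μ) : Wt H μ x :=
  fun h => LieAlgebra.IsKilling.lie_eq_smul_of_mem_rootSpace hx h

theorem mem_of_wt {μ : Module.Dual K H} {x : L} (hx : Wt H μ x) : x ∈ rootSpace H μ :=
  (LieModule.mem_genWeightSpace _ _ _).mpr fun h => ⟨1, by simp [hx h]⟩

omit [Fintype ι] [CharZero K] [IsAlgClosed K] [FiniteDimensional K L] [LieAlgebra.IsSimple K L] [H.IsCartanSubalgebra] in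
theorem Wt.lie {μ ν : Module.Dual K H} {x y : L} (hx : Wt H μ x) (hy : Wt H ν y) : Wt H (μ + ν) ⁅x, y⁆ := by
  intro h
  rw [leibniz_lie, hx h, hy h, smul_lie, lie_smul, ← add_smul]; rfl

omit [IsAlgClosed K] [FiniteDimensional K L] [LieAlgebra.IsSimple K L] [H.IsCartanSubalgebra] in
theorem wt_e (i : ι) : Wt H (b.baseSupp i) (b.e i) := fun h => (b.baseSupp_apply_smul_e i h).symm

omit [IsAlgClosed K] [FiniteDimensional K L] [LieAlgebra.IsSimple K L] [H.IsCartanSubalgebra] in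
theorem wt_f (i : ι) : Wt H (-b.baseSupp i) (b.f i) := fun h => by
  rw [LinearMap.neg_apply, neg_smul, b.baseSupp_apply_smul_f, neg_neg]; rfl

omit [IsAlgClosed K] [FiniteDimensional K L] [LieAlgebra.IsSimple K L] [H.IsCartanSubalgebra] in
theorem lie_h {μ : Module.Dual K H} {x : L} (hx : Wt H μ x) (i : ι) : ⁅b.h i, x⁆ = μ (b.h' i) • x := hx (b.h' i)

/-- the lie word `f_{l₁} f_{l₂} ⋯ v` -/
def word (v : L) : List ι → L
  | [] => v
  | i :: l => ⁅b.f i, word v l⁆

/-- the weight of a word -/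
def wordWt (ρ : Module.Dual K H) : List ι → Module.Dual K H
  | [] => ρ
  | i :: l => -b.baseSupp i + wordWt ρ l

omit [IsAlgClosed K] [FiniteDimensional K L] [LieAlgebra.IsSimple K L] [H.IsCartanSubalgebra] in
theorem wt_word {ρ : Module.Dual K H} {v : L} (hv : Wt H ρ v) (l : List ι) :
    Wt H (wordWt b ρ l) (word b v l) := by
  induction l with
  | nil => exact hv
  | cons i l ih => exact (wt_f b i).lie ih

open Classical in
omit [IsAlgClosed K] [FiniteDimensional K L] [LieAlgebra.IsSimple K L] [H.IsCartanSubalgebra] in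
theorem wordWt_eq (ρ : Module.Dual K H) (l : List ι) :
    wordWt b ρ l = ρ - ∑ i, (l.count i : K) • b.baseSupp i := by
  induction l with
  | nil => simp [wordWt]
  | cons i l ih =>
    simp only [wordWt, ih, List.count_cons, Nat.cast_add, add_smul, Finset.sum_add_distrib]
    simp [apply_ite (fun n : ℕ => (n : K)), ite_smul]
    abel

open Classical in
omit [IsAlgClosed K] [FiniteDimensional K L] [LieAlgebra.IsSimple K L] [H.IsCartanSubalgebra] in
theorem perm_of_wordWt_eq {ρ : Module.Dual K H} {l l' : List ι} (h : wordWt b ρ l = wordWt b ρ l') :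
    l.Perm l' := by
  rw [wordWt_eq, wordWt_eq, sub_right_inj] at h
  refine List.perm_iff_count.2 fun i => ?_
  exact_mod_cast Fintype.linearIndependent_iffₛ.mp b.linearIndependent_baseSupp _ _ h i

/-- the span of all words -/
def words (v : L) : Submodule K L := Submodule.span K (Set.range (word b v))

omit [CharZero K] [IsAlgClosed K] [FiniteDimensional K L] [LieAlgebra.IsSimple K L] [H.IsCartanSubalgebra] in
theorem word_mem (v : L) (l : List ι) : word b v l ∈ words b v := Submodule.subset_span ⟨l, rfl⟩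

omit [IsAlgClosed K] [FiniteDimensional K L] [LieAlgebra.IsSimple K L] [H.IsCartanSubalgebra] in
theorem e_word_mem {ρ : Module.Dual K H} {v : L} (hv : Wt H ρ v) (he : ∀ i, ⁅b.e i, v⁆ = 0) (i : ι)
    (l : List ι) : ⁅b.e i, word b v l⁆ ∈ words b v := by
  classical
  induction l with
  | nil => rw [show word b v [] = v from rfl, he]; exact zero_mem _
  | cons k l ih =>
    rw [show word b v (k :: l) = ⁅b.f k, word b v l⁆ from rfl, leibniz_lie]
    refine add_mem ?_ ?_
    · by_cases h : i = k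
      · subst h
        rw [(b.sl2 i).lie_e_f, lie_h b (wt_word b hv l) i]
        exact Submodule.smul_mem _ _ (word_mem b v l)
      · rw [b.lie_e_f_ne i k h, zero_lie]; exact zero_mem _
    · have : ∀ x ∈ words b v, ⁅b.f k, x⁆ ∈ words b v := by
        intro x hx
        induction hx using Submodule.span_induction with
        | mem x hx => obtain ⟨l, rfl⟩ := hx; exact word_mem b v (k :: l)
        | zero => simp
        | add x y _ _ hx hy => rw [lie_add]; exact add_mem hx hy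
        | smul c x _ hx => rw [lie_smul]; exact Submodule.smul_mem _ _ hx
      exact this _ ih

omit [IsAlgClosed K] [FiniteDimensional K L] [H.IsCartanSubalgebra] in
theorem words_eq_top {ρ : Module.Dual K H} {v : L} (hv : Wt H ρ v) (he : ∀ i, ⁅b.e i, v⁆ = 0) (hv0 : v ≠ 0) :
    words b v = ⊤ := by
  classical
  let S := words b v
  have hall : ∀ x : L, ∀ y ∈ S, ⁅x, y⁆ ∈ S := by
    intro x
    have hx : x ∈ LieSubalgebra.lieSpan K L (Set.range b.e ∪ Set.range b.f) := by simp [b.span_ef]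
    induction hx using LieSubalgebra.lieSpan_induction with
    | mem u hu =>
      intro y hy
      induction hy using Submodule.span_induction with
      | mem y hy =>
        obtain ⟨l, rfl⟩ := hy
        rcases hu with ⟨i, rfl⟩ | ⟨i, rfl⟩
        · exact e_word_mem b hv he i l
        · exact word_mem b v (i :: l)
      | zero => simp
      | add y z _ _ hy hz => rw [lie_add]; exact add_mem hy hz
      | smul c y _ hy => rw [lie_smul]; exact Submodule.smul_mem _ _ hy
    | zero => intro y _; simp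
    | add u w _ _ hu hw => intro y hy; rw [add_lie]; exact add_mem (hu y hy) (hw y hy)
    | smul c u _ hu => intro y hy; rw [smul_lie]; exact Submodule.smul_mem _ _ (hu y hy)
    | lie u w _ _ hu hw =>
      intro y hy; rw [lie_lie]; exact sub_mem (hu _ (hw y hy)) (hw _ (hu y hy))
  let I : LieIdeal K L := { S with lie_mem := fun {x m} hm => hall x m hm }
  rcases LieAlgebra.IsSimple.eq_bot_or_eq_top I with h | h
  · exfalso
    have : v ∈ I := word_mem b v []
    rw [h, LieSubmodule.mem_bot] at this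
    exact hv0 this
  · exact eq_top_iff.2 fun x _ => (h ▸ LieSubmodule.mem_top x : x ∈ I)

open Classical in
/-- A weight vector lies in the span of the words of its weight. -/
theorem mem_span_words {ρ μ : Module.Dual K H} {v x : L} (hv : Wt H ρ v) (he : ∀ i, ⁅b.e i, v⁆ = 0)
    (hv0 : v ≠ 0) (hx : Wt H μ x) :
    x ∈ Submodule.span K (word b v '' {l | wordWt b ρ l = μ}) := by
  have hx' : x ∈ words b v := by rw [words_eq_top b hv he hv0]; trivial
  rw [words, ← Set.image_univ, ← Set.union_compl_self {l | wordWt b ρ l = μ}, Set.image_union,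
    Submodule.span_union, Submodule.mem_sup] at hx'
  obtain ⟨y, hy, z, hz, rfl⟩ := hx'
  suffices z = 0 by simpa [this]
  have hyG : y ∈ rootSpace H μ := by
    refine (Submodule.span_le (p := (rootSpace H μ).toSubmodule)).2 ?_ hy
    rintro _ ⟨l, hl, rfl⟩
    exact hl ▸ mem_of_wt (wt_word b hv l)
  have hzG : z ∈ rootSpace H μ := by
    have := sub_mem (mem_of_wt hx) hyG
    simpa using this
  let s : Set (H → K) := {f | f ≠ ⇑μ}
  have hz' : z ∈ ⨆ f ∈ s, rootSpace H f := by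
    refine (Submodule.span_le (p := (⨆ f ∈ s, rootSpace H f : LieSubmodule K H L).toSubmodule)).2 ?_ hz
    rintro _ ⟨l, hl, rfl⟩
    refine LieSubmodule.mem_iSup_of_mem _ (LieSubmodule.mem_iSup_of_mem
      (show (⇑(wordWt b ρ l) : H → K) ∈ s from fun h => hl (LinearMap.coe_injective h)) ?_)
    exact mem_of_wt (wt_word b hv l)
  have hd := (iSupIndep_genWeightSpace K H L).disjoint_biSup (x := (⇑μ : H → K)) (y := s) (fun h => h rfl)
  have : z ∈ rootSpace H μ ⊓ ⨆ f ∈ s, rootSpace H f := ⟨hzG, hz'⟩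
  rw [hd.eq_bot, LieSubmodule.mem_bot] at this
  exact this

theorem exists_word {ρ μ : Module.Dual K H} {v x : L} (hv : Wt H ρ v) (he : ∀ i, ⁅b.e i, v⁆ = 0)
    (hv0 : v ≠ 0) (hx : Wt H μ x) (hx0 : x ≠ 0) : ∃ l, wordWt b ρ l = μ ∧ word b v l ≠ 0 := by
  by_contra h
  push Not at h
  have : Submodule.span K (word b v '' {l | wordWt b ρ l = μ}) ≤ ⊥ :=
    Submodule.span_le.2 (by rintro _ ⟨l, hl, rfl⟩; exact h l hl)
  exact hx0 (this (mem_span_words b hv he hv0 hx))

/-- The setting: `ρ` is the highest root, orthogonal to all simple roots but `α_j`, with `ρ(h_j) = 1`. -/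
structure Setup where
  ρ : Module.Dual K H
  v : L
  j : ι
  hv : Wt H ρ v
  hv0 : v ≠ 0
  he : ∀ i, ⁅b.e i, v⁆ = 0
  hN : ∀ i, ρ (b.h' i) ≠ 0 ↔ i = j
  hj : ρ (b.h' j) = 1

variable {b}

theorem exists_setup (ρ : Module.Dual K H) (hρ : rootSpace H ρ ≠ ⊥)
    (htop : ∀ i, rootSpace H (ρ + b.baseSupp i) = ⊥) (j : ι) (hN : ∀ i, ρ (b.h' i) ≠ 0 ↔ i = j)
    (hj : ρ (b.h' j) = 1) : ∃ T : Setup b, T.ρ = ρ ∧ T.j = j := by
  obtain ⟨v, hv, hv0⟩ : ∃ v ∈ rootSpace H ρ, v ≠ 0 := by
    by_contra h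
    push Not at h
    exact hρ ((LieSubmodule.eq_bot_iff _).2 h)
  refine ⟨⟨ρ, v, j, wt_of_mem hv, hv0, fun i => ?_, hN, hj⟩, rfl, rfl⟩
  have := mem_of_wt ((wt_e b i).lie (wt_of_mem hv))
  rw [add_comm (b.baseSupp i) ρ] at this
  have h := htop i
  rw [LieSubmodule.eq_bot_iff] at h
  exact h _ this

namespace Setup

variable (T : Setup b)

omit [IsAlgClosed K] [LieAlgebra.IsSimple K L] [H.IsCartanSubalgebra] in
theorem f_v_eq_zero {i : ι} (hi : i ≠ T.j) : ⁅b.f i, T.v⁆ = 0 := by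
  have P : (b.sl2 i).HasPrimitiveVectorWith T.v ((0 : ℕ) : K) :=
    ⟨T.hv0, by
      rw [lie_h b T.hv i, Nat.cast_zero, show T.ρ (b.h' i) = 0 from not_not.1 fun h => hi ((T.hN i).1 h)],
      T.he i⟩
  simpa using P.pow_toEnd_f_eq_zero_of_eq_nat rfl

omit [IsAlgClosed K] [LieAlgebra.IsSimple K L] [H.IsCartanSubalgebra] in
theorem prim : (b.sl2 T.j).HasPrimitiveVectorWith T.v ((1 : ℕ) : K) :=
  ⟨T.hv0, by rw [lie_h b T.hv T.j, Nat.cast_one, T.hj], T.he T.j⟩

/-- the vector `f_j v` of weight `ρ - α_j` -/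
def u : L := ⁅b.f T.j, T.v⁆

omit [IsAlgClosed K] [LieAlgebra.IsSimple K L] [H.IsCartanSubalgebra] in
theorem u_ne_zero : T.u ≠ 0 := by
  simpa [u] using T.prim.pow_toEnd_f_ne_zero_of_eq_nat rfl le_rfl

omit [IsAlgClosed K] [LieAlgebra.IsSimple K L] [H.IsCartanSubalgebra] in
theorem f_u : ⁅b.f T.j, T.u⁆ = 0 := by
  simpa [u, pow_succ'] using T.prim.pow_toEnd_f_eq_zero_of_eq_nat rfl

omit [IsAlgClosed K] [LieAlgebra.IsSimple K L] [H.IsCartanSubalgebra] in
theorem wt_u : Wt H (T.ρ - b.baseSupp T.j) T.u := by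
  have := (wt_f b T.j).lie T.hv
  rwa [neg_add_eq_sub] at this

omit [IsAlgClosed K] [LieAlgebra.IsSimple K L] [H.IsCartanSubalgebra] in
theorem e_u : ⁅b.e T.j, T.u⁆ = T.v := by
  rw [u, leibniz_lie, (b.sl2 T.j).lie_e_f, T.he, lie_zero, add_zero, lie_h b T.hv, T.hj, one_smul]

omit [IsAlgClosed K] [LieAlgebra.IsSimple K L] [H.IsCartanSubalgebra] in
theorem e_u_ne {i : ι} (hi : i ≠ T.j) : ⁅b.e i, T.u⁆ = 0 := by
  rw [u, leibniz_lie, b.lie_e_f_ne i T.j hi, zero_lie, T.he, lie_zero, add_zero]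

omit [IsAlgClosed K] [LieAlgebra.IsSimple K L] [H.IsCartanSubalgebra] in
theorem word_nil_or {l : List ι} (h : word b T.v l ≠ 0) :
    l = [] ∨ (∃ l', l = l' ++ [T.j]) := by
  induction l with
  | nil => exact Or.inl rfl
  | cons i l ih =>
    right
    have hl : word b T.v l ≠ 0 := fun e => h (by rw [show word b T.v (i :: l) = ⁅b.f i, word b T.v l⁆ from rfl, e, lie_zero])
    rcases ih hl with rfl | ⟨l', rfl⟩
    · refine ⟨[], ?_⟩
      by_contra hne
      exact h (T.f_v_eq_zero fun e => hne (by rw [e]; rfl))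
    · exact ⟨i :: l', rfl⟩

theorem rootSpace_rho : (rootSpace H T.ρ : Submodule K L) = Submodule.span K {T.v} := by
  refine le_antisymm (fun x hx => ?_) ((Submodule.span_singleton_le_iff_mem _ _).2 (mem_of_wt T.hv))
  refine Submodule.span_mono ?_ (mem_span_words b T.hv T.he T.hv0 (wt_of_mem hx))
  rintro _ ⟨l, hl, rfl⟩
  have := perm_of_wordWt_eq b (l' := []) hl
  rw [List.perm_nil.1 this]; rfl

theorem rootSpace_u :
    (rootSpace H (T.ρ - b.baseSupp T.j) : Submodule K L) = Submodule.span K {T.u} := by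
  rw [show (⇑T.ρ - ⇑(b.baseSupp T.j) : H → K) = ⇑(T.ρ - b.baseSupp T.j) from rfl]
  refine le_antisymm (fun x hx => ?_) ((Submodule.span_singleton_le_iff_mem _ _).2 (mem_of_wt T.wt_u))
  refine Submodule.span_mono ?_ (mem_span_words b T.hv T.he T.hv0 (wt_of_mem hx))
  rintro _ ⟨l, hl, rfl⟩
  have := perm_of_wordWt_eq b (ρ := T.ρ) (l := l) (l' := [T.j]) (hl.trans (by
    simp [wordWt, neg_add_eq_sub]))
  rw [List.perm_singleton.1 this]; rfl

/-- words of length two -/
theorem word_two {l : List ι} (hl : l.length = 2) (h : word b T.v l ≠ 0) :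
    ∃ k, k ≠ T.j ∧ l = [k, T.j] := by
  rcases T.word_nil_or h with rfl | ⟨l', rfl⟩
  · simp at hl
  obtain ⟨k, rfl⟩ := List.length_eq_one_iff.1 (by simpa using hl : l'.length = 1)
  exact ⟨k, fun e => h (by subst e; exact T.f_u), rfl⟩

omit [IsAlgClosed K] [LieAlgebra.IsSimple K L] [H.IsCartanSubalgebra] in
theorem e_word_two {k : ι} (hk : k ≠ T.j) :
    ⁅b.e T.j, ⁅b.f k, T.u⁆⁆ = 0 ∧ ⁅b.e k, ⁅b.f k, T.u⁆⁆ = (-(b.A T.j k : K)) • T.u ∧
      ∀ i, i ≠ T.j → i ≠ k → ⁅b.e i, ⁅b.f k, T.u⁆⁆ = 0 := by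
  refine ⟨?_, ?_, fun i hi hik => ?_⟩
  · rw [leibniz_lie, b.lie_e_f_ne _ _ hk.symm, zero_lie, T.e_u, T.f_v_eq_zero hk, add_zero]
  · rw [leibniz_lie, (b.sl2 k).lie_e_f, T.e_u_ne hk, lie_zero, add_zero, lie_h b T.wt_u,
      LinearMap.sub_apply, b.baseSupp_apply_h', show T.ρ (b.h' k) = 0 from not_not.1 fun h => hk ((T.hN k).1 h),
      zero_sub]
  · rw [leibniz_lie, b.lie_e_f_ne _ _ hik, zero_lie, T.e_u_ne hi, lie_zero, add_zero]

theorem A_ne_zero {k : ι} (hk : k ≠ T.j) (h : ⁅b.f k, T.u⁆ ≠ 0) : b.A T.j k ≠ 0 ∧ b.A k T.j ≠ 0 := by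
  constructor
  · intro e
    have P : (b.sl2 k).HasPrimitiveVectorWith T.u ((0 : ℕ) : K) :=
      ⟨T.u_ne_zero, by
        rw [lie_h b T.wt_u, LinearMap.sub_apply, b.baseSupp_apply_h', e,
          show T.ρ (b.h' k) = 0 from not_not.1 fun h => hk ((T.hN k).1 h)]
        simp,
        T.e_u_ne hk⟩
    exact h (by simpa using P.pow_toEnd_f_eq_zero_of_eq_nat rfl)
  · intro e
    have P : (b.sl2 T.j).HasPrimitiveVectorWith (b.f k) ((0 : ℕ) : K) :=
      ⟨(b.sl2 k).f_ne_zero, by rw [b.lie_h_f, e]; simp, b.lie_e_f_ne _ _ hk.symm⟩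
    have hfk : ⁅b.f T.j, b.f k⁆ = 0 := by simpa using P.pow_toEnd_f_eq_zero_of_eq_nat rfl
    apply h
    have hfk' : ⁅b.f k, b.f T.j⁆ = 0 := by rw [← lie_skew, hfk, neg_zero]
    rw [u, leibniz_lie, hfk', zero_lie, T.f_v_eq_zero hk, lie_zero, add_zero]

theorem rootSpace_two {k : ι} (hk : k ≠ T.j) :
    (rootSpace H (T.ρ - b.baseSupp T.j - b.baseSupp k) : Submodule K L) =
      Submodule.span K {⁅b.f k, T.u⁆} := by
  classical
  rw [show (⇑T.ρ - ⇑(b.baseSupp T.j) - ⇑(b.baseSupp k) : H → K) = ⇑(T.ρ - b.baseSupp T.j - b.baseSupp k) from rfl]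
  have hw : Wt H (T.ρ - b.baseSupp T.j - b.baseSupp k) ⁅b.f k, T.u⁆ := by
    have := (wt_f b k).lie T.wt_u
    rwa [neg_add_eq_sub] at this
  refine le_antisymm (fun x hx => ?_) ((Submodule.span_singleton_le_iff_mem _ _).2 (mem_of_wt hw))
  refine Submodule.span_le.2 ?_ (mem_span_words b T.hv T.he T.hv0 (wt_of_mem hx))
  rintro _ ⟨l, hl, rfl⟩
  have hp := perm_of_wordWt_eq b (ρ := T.ρ) (l := l) (l' := [k, T.j]) (hl.trans (by
    simp only [wordWt]; abel))
  by_cases h0 : word b T.v l = 0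
  · rw [h0]; exact zero_mem _
  obtain ⟨k', hk', rfl⟩ := T.word_two hp.length_eq h0
  have : k = k' := by
    rcases List.mem_pair.1 (hp.mem_iff.1 (List.mem_cons_self)) with h | h
    · exact h.symm
    · exact absurd h hk'
  subst this
  exact Submodule.subset_span rfl

/-- A Borel stable subspace as a module over the Cartan subalgebra. -/
def asSub {W : Submodule K L}
    (hst : ∀ x ∈ H.toSubmodule ⊔ (b.borelUpper : Submodule K L), ∀ w ∈ W, ⁅x, w⁆ ∈ W) :
    LieSubmodule K H L :=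
  { W with lie_mem := fun {x m} hm => hst x (Submodule.mem_sup_left x.2) m hm }

omit [IsAlgClosed K] [LieAlgebra.IsSimple K L] [H.IsCartanSubalgebra] in
theorem e_stable {W : Submodule K L}
    (hst : ∀ x ∈ H.toSubmodule ⊔ (b.borelUpper : Submodule K L), ∀ w ∈ W, ⁅x, w⁆ ∈ W) (i : ι)
    {w : L} (hw : w ∈ W) : ⁅b.e i, w⁆ ∈ W :=
  hst _ (Submodule.mem_sup_right (LieSubalgebra.subset_lieSpan (Set.mem_range_self i))) w hw

/-- Outside a given subspace, a stable subspace has a weight vector whose raisings all fall inside. -/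
theorem exists_minimal {W W' : Submodule K L}
    (hst : ∀ x ∈ H.toSubmodule ⊔ (b.borelUpper : Submodule K L), ∀ w ∈ W, ⁅x, w⁆ ∈ W) (hWW : ¬ W ≤ W') :
    ∃ (x : L) (l : List ι), x ∈ W ∧ x ∉ W' ∧ Wt H (wordWt b T.ρ l) x ∧ word b T.v l ≠ 0 ∧
      ∀ i, ⁅b.e i, x⁆ ∈ W' := by
  classical
  let P : ℕ → Prop := fun n => ∃ (x : L) (l : List ι), x ∈ W ∧ x ∉ W' ∧ Wt H (wordWt b T.ρ l) x ∧
    word b T.v l ≠ 0 ∧ l.length = n
  have hP : ∃ n, P n := by
    by_contra h
    apply hWW
    intro x hx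
    have hdec := LieModule.eq_iSup_inf_genWeightSpace K H L (asSub hst)
    have hx' : x ∈ ⨆ χ : Weight K H L, asSub hst ⊓ genWeightSpace L χ := hdec ▸ (show x ∈ asSub hst from hx)
    clear hx hdec
    induction hx' using LieSubmodule.iSup_induction' with
    | mem χ y hy =>
      by_contra hy'
      have hy0 : y ≠ 0 := fun e => hy' (e ▸ W'.zero_mem)
      obtain ⟨l, hl, hl'⟩ := exists_word b T.hv T.he T.hv0 (μ := χ.toLinear) (wt_of_mem hy.2) hy0
      exact h ⟨l.length, y, l, hy.1, hy', hl ▸ wt_of_mem hy.2, hl', rfl⟩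
    | zero => exact W'.zero_mem
    | add y z _ _ hy hz => exact W'.add_mem hy hz
  obtain ⟨x, l, hx, hx', hxw, hl0, hlen⟩ := Nat.find_spec hP
  refine ⟨x, l, hx, hx', hxw, hl0, fun i => ?_⟩
  by_contra hi
  have h0 : ⁅b.e i, x⁆ ≠ 0 := fun e => hi (e ▸ W'.zero_mem)
  have hw := (wt_e b i).lie hxw
  obtain ⟨l', hl', hl'0⟩ := exists_word b T.hv T.he T.hv0 hw h0
  have hperm := perm_of_wordWt_eq b (ρ := T.ρ) (l := i :: l') (l' := l) (by
    simp only [wordWt, hl']; abel)
  exact Nat.find_min hP (m := l'.length) (by rw [← hlen, ← hperm.length_eq]; simp)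
    ⟨_, l', e_stable hst i hx, hi, hl' ▸ hw, hl'0, rfl⟩

theorem v_mem {W : Submodule K L}
    (hst : ∀ x ∈ H.toSubmodule ⊔ (b.borelUpper : Submodule K L), ∀ w ∈ W, ⁅x, w⁆ ∈ W) (hW : W ≠ ⊥) :
    T.v ∈ W := by
  obtain ⟨x, l, hx, hx', hxw, -, hxe⟩ := T.exists_minimal (W' := ⊥) hst (fun h => hW (le_bot_iff.1 h))
  have hxe' : ∀ i, ⁅b.e i, x⁆ = 0 := fun i => (Submodule.mem_bot K).1 (hxe i)
  have hx0 : x ≠ 0 := fun e => hx' (e ▸ zero_mem _)
  obtain ⟨m, hm, -⟩ := exists_word b hxw hxe' hx0 T.hv T.hv0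
  have hm' : ∀ (l m : List ι), wordWt b (wordWt b T.ρ l) m = wordWt b T.ρ (m ++ l) := by
    intro l m
    induction m with
    | nil => rfl
    | cons i m ih => simp [wordWt, ih]
  rw [hm'] at hm
  have hnil := (perm_of_wordWt_eq b (l' := []) hm).eq_nil
  obtain ⟨-, rfl⟩ := List.append_eq_nil_iff.1 hnil
  have : x ∈ (rootSpace H T.ρ : Submodule K L) := mem_of_wt hxw
  rw [T.rootSpace_rho, Submodule.mem_span_singleton] at this
  obtain ⟨c, rfl⟩ := this
  have hc : c ≠ 0 := fun e => hx0 (by simp [e])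
  simpa [hc] using W.smul_mem c⁻¹ hx

/-- the Borel stable line -/
theorem u_mem {W : Submodule K L}
    (hst : ∀ x ∈ H.toSubmodule ⊔ (b.borelUpper : Submodule K L), ∀ w ∈ W, ⁅x, w⁆ ∈ W)
    (hW : ¬ W ≤ Submodule.span K {T.v}) : T.u ∈ W := by
  obtain ⟨x, l, hx, hx', hxw, hl0, hxe⟩ := T.exists_minimal hst hW
  rcases T.word_nil_or hl0 with rfl | ⟨l', rfl⟩
  · exact absurd (T.rootSpace_rho ▸ (show x ∈ (rootSpace H T.ρ : Submodule K L) from mem_of_wt hxw)) hx'
  by_cases hall : ∀ i, ⁅b.e i, x⁆ = 0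
  · have hx0 : x ≠ 0 := fun e => hx' (e ▸ zero_mem _)
    obtain ⟨m, hm, -⟩ := exists_word b hxw hall hx0 T.hv T.hv0
    rw [wordWt_eq, wordWt_eq] at hm
    exfalso
    classical
    have h2 : ∀ i, ((m.count i : K) + ((l' ++ [T.j]).count i : K)) = 0 := by
      refine Fintype.linearIndependent_iff.mp b.linearIndependent_baseSupp _ ?_
      simp only [add_smul, Finset.sum_add_distrib]
      rw [← sub_eq_zero] at hm
      linear_combination (norm := module) -hm
    have h3 := h2 T.j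
    norm_cast at h3
    simp at h3
  push Not at hall
  obtain ⟨i, hi⟩ := hall
  obtain ⟨c, hc⟩ := Submodule.mem_span_singleton.1 (hxe i)
  have hc0 : c ≠ 0 := fun e => hi (by rw [← hc, e, zero_smul])
  have hw := (wt_e b i).lie hxw
  have hvw : Wt H (b.baseSupp i + wordWt b T.ρ (l' ++ [T.j])) T.v := fun h => by
    have := hw h
    rw [← hc, lie_smul, smul_comm] at this
    exact (smul_right_injective L hc0) this
  obtain ⟨n, hn, -⟩ := exists_word b T.hv T.he T.hv0 hvw T.hv0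
  have hp : wordWt b T.ρ (i :: []) = wordWt b T.ρ (l' ++ [T.j]) := by
    have h : b.baseSupp i + wordWt b T.ρ (l' ++ [T.j]) = T.ρ := by
      refine LinearMap.ext fun h => ?_
      have e := (hvw h).symm.trans (T.hv h)
      exact smul_left_injective K T.hv0 e
    simp only [wordWt]
    rw [eq_comm, eq_neg_add_iff_add_eq]
    exact h
  have hp' := perm_of_wordWt_eq b hp
  have hl' : l' = [] := List.eq_nil_of_length_eq_zero (by simpa using hp'.length_eq.symm)
  subst hl'
  have hxw' : Wt H (T.ρ - b.baseSupp T.j) x := by simpa [wordWt, neg_add_eq_sub] using hxw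
  have : x ∈ (rootSpace H (T.ρ - b.baseSupp T.j) : Submodule K L) := by
    rw [show (⇑T.ρ - ⇑(b.baseSupp T.j) : H → K) = ⇑(T.ρ - b.baseSupp T.j) from rfl]
    exact mem_of_wt hxw'
  rw [T.rootSpace_u, Submodule.mem_span_singleton] at this
  obtain ⟨a, rfl⟩ := this
  have ha : a ≠ 0 := fun e => hx' (by simp [e])
  simpa [ha] using W.smul_mem a⁻¹ hx

omit [IsAlgClosed K] [LieAlgebra.IsSimple K L] [H.IsCartanSubalgebra] in
theorem line_stable :
    ∀ x ∈ H.toSubmodule ⊔ (b.borelUpper : Submodule K L), ∀ w ∈ Submodule.span K {T.v, T.u},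
      ⁅x, w⁆ ∈ Submodule.span K {T.v, T.u} := by
  set S := Submodule.span K {T.v, T.u}
  have key : ∀ x : L, ⁅x, T.v⁆ ∈ S → ⁅x, T.u⁆ ∈ S → ∀ w ∈ S, ⁅x, w⁆ ∈ S := by
    intro x h1 h2 w hw
    obtain ⟨a, c, rfl⟩ := Submodule.mem_span_pair.1 hw
    rw [lie_add, lie_smul, lie_smul]
    exact S.add_mem (S.smul_mem _ h1) (S.smul_mem _ h2)
  have hv : T.v ∈ S := Submodule.subset_span (by simp)
  have hu : T.u ∈ S := Submodule.subset_span (by simp)
  intro x hx w hw
  obtain ⟨a, ha, c, hc, rfl⟩ := Submodule.mem_sup.1 hx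
  rw [add_lie]
  refine S.add_mem (key a ?_ ?_ w hw) ?_
  · exact (T.hv ⟨a, ha⟩).symm ▸ S.smul_mem _ hv
  · exact (T.wt_u ⟨a, ha⟩).symm ▸ S.smul_mem _ hu
  · have hc' : c ∈ LieSubalgebra.lieSpan K L (Set.range b.e) := hc
    clear hc hx
    induction hc' using LieSubalgebra.lieSpan_induction generalizing w with
    | mem y hy =>
      obtain ⟨i, rfl⟩ := hy
      refine key _ (by rw [T.he]; exact S.zero_mem) ?_ w hw
      by_cases h : i = T.j
      · subst h; rw [T.e_u]; exact hv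
      · rw [T.e_u_ne h]; exact S.zero_mem
    | zero => simp
    | add y z _ _ hy hz => rw [add_lie]; exact S.add_mem (hy w hw) (hz w hw)
    | smul r y _ hy => rw [smul_lie]; exact S.smul_mem _ (hy w hw)
    | lie y z _ _ hy hz => rw [lie_lie]; exact S.sub_mem (hy _ (hz w hw)) (hz _ (hy w hw))

theorem linearIndependent_vu : LinearIndependent K ![T.v, T.u] := by
  rw [linearIndependent_fin2]
  refine ⟨T.u_ne_zero, fun a h => ?_⟩
  simp only [Matrix.cons_val_one, Matrix.cons_val_zero] at h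
  have hw : Wt H (T.ρ - b.baseSupp T.j) T.v := fun x => by rw [← h, lie_smul, T.wt_u x, smul_comm]
  obtain ⟨l, hl, -⟩ := exists_word b T.hv T.he T.hv0 hw T.hv0
  have e : T.ρ - b.baseSupp T.j = T.ρ :=
    LinearMap.ext fun x => smul_left_injective K T.hv0 ((hw x).symm.trans (T.hv x))
  exact b.linearIndependent_baseSupp.ne_zero T.j (sub_eq_self.1 e)

end Setup

end Groth.Agent.AdjVar85
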