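import Groth.Agent.AdjVar85.Highest

/-! Borel-stable planes in the adjoint representation. -/

set_option autoImplicit false

noncomputable section

namespace Groth.Agent.AdjVar85

open LieModule LieAlgebra

universe u v w

variable {ι : Type u} {K : Type v} {L : Type w} [Fintype ι] [Field K] [CharZero K]
  [IsAlgClosed K] [LieRing L] [LieAlgebra K L] [FiniteDimensional K L] [LieAlgebra.IsSimple K L]
  {H : LieSubalgebra K L} [H.IsCartanSubalgebra] {b : LieAlgebra.Basis ι H}

open Classical in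
/-- A Borel stable plane is spanned by `v`, `u` and `f_k u` for some `k ≠ j`. -/
theorem Setup.plane (T : Setup b) {W : Submodule K L} (hW : Module.finrank K W = 3)
    (hst : ∀ x ∈ H.toSubmodule ⊔ (b.borelUpper : Submodule K L), ∀ w ∈ W, ⁅x, w⁆ ∈ W) :
    ∃ k, k ≠ T.j ∧ ⁅b.f k, T.u⁆ ≠ 0 ∧
      W = Submodule.span K {T.v} ⊔ Submodule.span K {T.u} ⊔ Submodule.span K {⁅b.f k, T.u⁆} := by
  have hne : W ≠ ⊥ := by rintro rfl; rw [finrank_bot] at hW; omega
  have hnv : ¬ W ≤ Submodule.span K {T.v} := fun h => by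
    have := Submodule.finrank_mono h
    rw [finrank_span_singleton T.hv0, hW] at this; omega
  set W' := Submodule.span K {T.v, T.u} with hW'
  have hW'2 : Module.finrank K W' = 2 := by
    have := finrank_span_eq_card T.linearIndependent_vu
    rwa [Fintype.card_fin, Matrix.range_cons_cons_empty] at this
  have hnu : ¬ W ≤ W' := fun h => by
    have := Submodule.finrank_mono h
    omega
  obtain ⟨x, l, hx, hx', hxw, hl0, hxe⟩ := T.exists_minimal hst hnu
  have hvW' : T.v ∈ W' := Submodule.subset_span (by simp)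
  have huW' : T.u ∈ W' := Submodule.subset_span (by simp)
  rcases T.word_nil_or hl0 with rfl | ⟨l', rfl⟩
  · exfalso
    have : x ∈ (rootSpace H T.ρ : Submodule K L) := mem_of_wt hxw
    rw [T.rootSpace_rho, Submodule.mem_span_singleton] at this
    obtain ⟨a, rfl⟩ := this
    exact hx' (W'.smul_mem _ hvW')
  have hx0 : x ≠ 0 := fun e => hx' (e ▸ W'.zero_mem)
  obtain ⟨i, hi⟩ : ∃ i, ⁅b.e i, x⁆ ≠ 0 := by
    by_contra hall
    push Not at hall
    obtain ⟨m, hm, -⟩ := exists_word b hxw hall hx0 T.hv T.hv0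
    rw [wordWt_eq, wordWt_eq] at hm
    have h2 : ∀ i, ((m.count i : K) + ((l' ++ [T.j]).count i : K)) = 0 := by
      refine Fintype.linearIndependent_iff.mp b.linearIndependent_baseSupp _ ?_
      simp only [add_smul, Finset.sum_add_distrib]
      linear_combination (norm := module) -hm
    have h3 := h2 T.j
    norm_cast at h3
    simp at h3
  obtain ⟨a, c, hac⟩ := Submodule.mem_span_pair.1 (hxe i)
  have hw := (wt_e b i).lie hxw
  set μ := b.baseSupp i + wordWt b T.ρ (l' ++ [T.j]) with hμ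
  have hlin : ∀ h : H, a * (T.ρ h - μ h) = 0 ∧ c * ((T.ρ - b.baseSupp T.j) h - μ h) = 0 := by
    intro h
    have e := hw h
    rw [← hac, lie_add, lie_smul, lie_smul, T.hv h, T.wt_u h] at e
    have := Fintype.linearIndependent_iff.1 T.linearIndependent_vu
      ![a * (T.ρ h - μ h), c * ((T.ρ - b.baseSupp T.j) h - μ h)] (by
        simp only [Fin.sum_univ_two, Matrix.cons_val_zero, Matrix.cons_val_one]
        linear_combination (norm := module) e)
    exact ⟨this 0, this 1⟩
  obtain ⟨n, hn, hn2⟩ : ∃ n : List ι, wordWt b T.ρ (i :: n) = wordWt b T.ρ (l' ++ [T.j]) ∧ n.length ≤ 1 := by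
    by_cases hc : c = 0
    · have ha : a ≠ 0 := fun ha => hi (by rw [← hac, ha, hc]; simp)
      refine ⟨[], ?_, by simp⟩
      have h : T.ρ = μ := LinearMap.ext fun h => sub_eq_zero.1 ((mul_eq_zero.1 (hlin h).1).resolve_left ha)
      simp only [wordWt]
      conv_lhs => arg 2; rw [h]
      rw [hμ]; abel
    · refine ⟨[T.j], ?_, by simp⟩
      have h : T.ρ - b.baseSupp T.j = μ :=
        LinearMap.ext fun h => sub_eq_zero.1 ((mul_eq_zero.1 (hlin h).2).resolve_left hc)
      simp only [wordWt]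
      rw [neg_add_eq_sub (b.baseSupp T.j), h, hμ]; abel
  have hlen := (perm_of_wordWt_eq b hn).length_eq
  rcases Nat.eq_zero_or_pos l'.length with h0 | h0
  · exfalso
    rw [List.length_eq_zero_iff] at h0
    subst h0
    have hxw' : Wt H (T.ρ - b.baseSupp T.j) x := by simpa [wordWt, neg_add_eq_sub] using hxw
    have : x ∈ (rootSpace H (T.ρ - b.baseSupp T.j) : Submodule K L) := by
      rw [show (⇑T.ρ - ⇑(b.baseSupp T.j) : H → K) = ⇑(T.ρ - b.baseSupp T.j) from rfl]
      exact mem_of_wt hxw'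
    rw [T.rootSpace_u, Submodule.mem_span_singleton] at this
    obtain ⟨d, rfl⟩ := this
    exact hx' (W'.smul_mem _ huW')
  obtain ⟨k, hk, hl⟩ := T.word_two (l := l' ++ [T.j]) (by simp at hlen ⊢; omega) hl0
  rw [hl] at hxw hl0
  refine ⟨k, hk, hl0, ?_⟩
  have hxw' : Wt H (T.ρ - b.baseSupp T.j - b.baseSupp k) x := by
    have e : wordWt b T.ρ [k, T.j] = T.ρ - b.baseSupp T.j - b.baseSupp k := by simp only [wordWt]; abel
    rwa [e] at hxw
  have hxS : x ∈ Submodule.span K {⁅b.f k, T.u⁆} := by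
    rw [← T.rootSpace_two hk,
      show (⇑T.ρ - ⇑(b.baseSupp T.j) - ⇑(b.baseSupp k) : H → K) = ⇑(T.ρ - b.baseSupp T.j - b.baseSupp k) from rfl]
    exact mem_of_wt hxw'
  obtain ⟨d, rfl⟩ := Submodule.mem_span_singleton.1 hxS
  have hd : d ≠ 0 := fun e => hx0 (by rw [e, zero_smul])
  have hfW : ⁅b.f k, T.u⁆ ∈ W := by simpa [hd] using W.smul_mem d⁻¹ hx
  have heq : Submodule.span K {T.v} ⊔ Submodule.span K {T.u} = W' := by
    rw [hW', Submodule.span_insert]
  rw [heq]
  refine (Submodule.eq_of_le_of_finrank_le ?_ ?_).symm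
  · exact sup_le (Submodule.span_le.2 (Set.insert_subset (T.v_mem hst hne) (Set.singleton_subset_iff.2 (T.u_mem hst hnv))))
      ((Submodule.span_singleton_le_iff_mem _ _).2 hfW)
  · have hlt : W' < W' ⊔ Submodule.span K {⁅b.f k, T.u⁆} := lt_of_le_of_ne le_sup_left fun e => hx' (by
      rw [e]; exact Submodule.mem_sup_right (Submodule.smul_mem _ _ (Submodule.mem_span_singleton_self _)))
    have := Submodule.finrank_lt_finrank_of_lt hlt
    omega

end Groth.Agent.AdjVar85
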